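import Cfsg.Agent.H141.Rg.Defs
import Cfsg.Agent.H851.Dg.NumT

/-!
# Numerical facts for the normal sets (helper243, S5714, task 4612)

* `two_pow_dim_le` : `2 ^ dim ≤ |T|` for the large classical groups;
* `card_primeFactors_le` : a number `n` has at most `log₂ n` prime factors;
* `nf_of_index` : `NF` from a family of sets indexed by a finite type.
-/

set_option autoImplicit false

namespace Cfsg.Agent.H243.RG

open Cfsg Cfsg.Agent.OrdDiv Cfsg.Agent.H436 Cfsg.Agent.H851.Dg Cfsg.Agent.H141.Rg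
open Cfsg.Agent.H278.El.AltNum (dimOf)

theorem le_card_of {q k D d c X : ℕ} (hq : 2 ≤ q) (hk : D ≤ k) (h : d * c = X) (hX : q ^ k ∣ X)
    (hd : Nat.Coprime q d) (hc : 0 < c) : 2 ^ D ≤ c := by
  rw [← h] at hX
  have h1 : q ^ k ∣ c := (Nat.Coprime.pow_left k hd).dvd_of_dvd_mul_left hX
  calc 2 ^ D ≤ 2 ^ k := Nat.pow_le_pow_right (by norm_num) hk
    _ ≤ q ^ k := Nat.pow_le_pow_left hq k
    _ ≤ c := Nat.le_of_dvd hc h1

theorem coprime_sub {q : ℕ} (hq : 1 ≤ q) (m : ℕ) (hm : 1 ≤ m) : Nat.Coprime q (q ^ m - 1) := by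
  have h1 : Nat.Coprime (q ^ m) (q ^ m - 1) := by
    rw [Nat.coprime_self_sub_right (Nat.one_le_pow _ _ hq)]
    exact Nat.coprime_one_right _
  exact Nat.Coprime.coprime_dvd_left (dvd_pow_self q (by omega)) h1

theorem coprime_add {q : ℕ} (m : ℕ) (hm : 1 ≤ m) : Nat.Coprime q (q ^ m + 1) := by
  have h1 : Nat.Coprime (q ^ m) (q ^ m + 1) := by simp
  exact Nat.Coprime.coprime_dvd_left (dvd_pow_self q (by omega)) h1

theorem tri_ge {n : ℕ} (hn : 3 ≤ n) : n ≤ n * (n - 1) / 2 := by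
  rw [Nat.le_div_iff_mul_le (by norm_num)]
  exact Nat.mul_le_mul_left _ (by omega)

/-- the order is at least `2 ^ dim` -/
theorem two_pow_dim_le {g : Grp} (hg : BigCl g) (hc : Cond g) {c : ℕ} (h : den g * c = num g) (h0 : 0 < c) :
    2 ^ dimOf g ≤ c := by
  cases g with
  | psl n q =>
    have hn : 4 ≤ n := hg
    have hq : 2 ≤ q := hc.2.2.two_le
    have h1 := coprime_sub (q := q) (by omega) 1 le_rfl
    rw [pow_one] at h1
    exact le_card_of hq (D := n) (tri_ge (by omega)) h (pow_dvd_glN n q)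
      (Nat.Coprime.mul_right (h1.coprime_dvd_right (Nat.gcd_dvd_right _ _)) h1) h0
  | psu n q =>
    have hn : 4 ≤ n := hg
    have hq : 2 ≤ q := hc.2.2.two_le
    have h1 := coprime_add (q := q) 1 le_rfl
    rw [pow_one] at h1
    exact le_card_of hq (D := n) (tri_ge (by omega)) h (Dvd.intro _ rfl)
      (Nat.Coprime.mul_right (h1.coprime_dvd_right (Nat.gcd_dvd_right _ _)) h1) h0
  | psp m q =>
    have hn : 3 ≤ m := hg
    have hq : 2 ≤ q := hc.2.2.two_le
    have h1 := coprime_sub (q := q) (by omega) 1 le_rfl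
    rw [pow_one] at h1
    refine le_card_of hq (k := m ^ 2) (show 2 * m ≤ m ^ 2 by nlinarith) h (Dvd.intro _ rfl)
      (h1.coprime_dvd_right (Nat.gcd_dvd_right _ _)) h0
  | oodd m q =>
    have hn : 3 ≤ m := hg
    have hq : 2 ≤ q := hc.2.2.two_le
    refine le_card_of hq (k := m ^ 2) (show 2 * m + 1 ≤ m ^ 2 by nlinarith) h (Dvd.intro _ rfl) ?_ h0
    exact Nat.Coprime.symm (Nat.coprime_two_left.2 hc.2.1)
  | oplus m q =>
    have hn : 4 ≤ m := hg
    have hq : 2 ≤ q := hc.2.two_le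
    refine le_card_of hq (k := m * (m - 1)) (show 2 * m ≤ m * (m - 1) from ?_) h (Dvd.intro _ rfl)
      ((coprime_sub (q := q) (by omega) m (by omega)).coprime_dvd_right (Nat.gcd_dvd_right _ _)) h0
    rw [mul_comm 2 m]
    exact Nat.mul_le_mul_left _ (by omega)
  | ominus m q =>
    have hn : 4 ≤ m := hg
    have hq : 2 ≤ q := hc.2.two_le
    refine le_card_of hq (k := m * (m - 1)) (show 2 * m ≤ m * (m - 1) from ?_) h (Dvd.intro _ rfl)
      ((coprime_add (q := q) m (by omega)).coprime_dvd_right (Nat.gcd_dvd_right _ _)) h0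
    rw [mul_comm 2 m]
    exact Nat.mul_le_mul_left _ (by omega)
  | _ => exact hg.elim

theorem four_le_dim {g : Grp} (hg : BigCl g) : 4 ≤ dimOf g := by
  cases g with
  | psl n q => exact hg
  | psu n q => exact hg
  | psp m q => have h : 3 ≤ m := hg; show 4 ≤ 2 * m; omega
  | oodd m q => have h : 3 ≤ m := hg; show 4 ≤ 2 * m + 1; omega
  | oplus m q => have h : 4 ≤ m := hg; show 4 ≤ 2 * m; omega
  | ominus m q => have h : 4 ≤ m := hg; show 4 ≤ 2 * m; omega
  | _ => exact hg.elim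

theorem five_le_dim {g : Grp} (hg : BigCl g) {u : ℕ} (hu : TwoU g u) : 5 ≤ dimOf g := by
  cases g with
  | psl n q => exact hu.elim
  | psu n q => exact hu.elim
  | psp m q => have h : 3 ≤ m := hg; show 5 ≤ 2 * m; omega
  | oodd m q => have h : 3 ≤ m := hg; show 5 ≤ 2 * m + 1; omega
  | oplus m q => have h : 4 ≤ m := hg; show 5 ≤ 2 * m; omega
  | ominus m q => exact hu.elim
  | _ => exact hg.elim

/-- number of prime factors -/
theorem two_pow_card_primeFactors_le {n : ℕ} (hn : n ≠ 0) : 2 ^ n.primeFactors.card ≤ n := by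
  calc 2 ^ n.primeFactors.card = ∏ _p ∈ n.primeFactors, 2 := by rw [Finset.prod_const]
    _ ≤ ∏ p ∈ n.primeFactors, p := Finset.prod_le_prod' fun p hp => (Nat.prime_of_mem_primeFactors hp).two_le
    _ ≤ n := Nat.le_of_dvd (Nat.pos_of_ne_zero hn) (Nat.prod_primeFactors_dvd n)

universe u v

/-- `D ≤ 2 lg T` if `2 ^ D ≤ |T|` -/
theorem le_two_lg {T : Type u} [Group T] {D : ℕ} (h : 2 ^ D ≤ Nat.card T) : (D : ℝ) ≤ 2 * lg T := by
  have h1 : (2 : ℝ) ^ D ≤ (Nat.card T : ℝ) := by exact_mod_cast h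
  have h2 : (D : ℝ) * Real.log 2 ≤ lg T := by
    rw [← Real.log_pow]
    exact Real.log_le_log (by positivity) h1
  have h3 := Real.log_two_gt_d9
  have h4 : (0 : ℝ) ≤ D := Nat.cast_nonneg _
  nlinarith

/-- the sets, with an arbitrary finite index type -/
theorem nf_of_index {T : Type u} [Group T] {ι : Type v} [Fintype ι] {w : ℝ} (E : ι → Set T) (h1 : ∀ i, CInv (E i))
    (h2 : ∀ i, (Nat.card T : ℝ) ≤ w * Nat.card (E i))
    (h3 : ∀ R : Subgroup T, R ≠ ⊤ → ∃ i, ∀ x ∈ R, x ∉ E i) : NF (Fintype.card ι) w T := by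
  refine ⟨fun j => E ((Fintype.equivFin ι).symm j), fun j => h1 _, fun j => h2 _, fun R hR => ?_⟩
  obtain ⟨i, hi⟩ := h3 R hR
  refine ⟨Fintype.equivFin ι i, ?_⟩
  show ∀ x ∈ R, x ∉ E ((Fintype.equivFin ι).symm (Fintype.equivFin ι i))
  rw [Equiv.symm_apply_apply]
  exact hi

end Cfsg.Agent.H243.RG
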