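import Cfsg.Agent.H951.Two.Row

/-!
# Two normal sets for the primes with two types of elements of order `u` (helper243, S5714, task 4612)

`TwoSets A r T` : two normal sets of density `≥ 3 / A`; every subgroup with cyclic Sylow `r`-subgroups misses one of them.
The same proof as helper951's `two_row`, with explicit sets: the images of the elements with a power of order `r` of
type one (two).
-/

set_option autoImplicit false
set_option linter.unusedSectionVars false

namespace Cfsg.Agent.H243.RG.Two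

open Cfsg Module Cfsg.Agent.H200.LinFix Cfsg.Agent.H264.FKS Cfsg.Agent.H436 Matrix Cfsg.Agent.OrdDiv
  Cfsg.Agent.H915.GN Cfsg.Agent.H264.GN QuadraticMap Cfsg.Agent.LieClassical.OmegaReindex Cfsg.Agent.H951.Two

/-- two normal sets such that a subgroup with cyclic Sylow `r`-subgroups misses one of them -/
def TwoSets (A r : ℕ) (T : Type*) [Group T] : Prop :=
  ∃ E₁ E₂ : Set T, (∀ x ∈ E₁, ∀ g : T, g * x * g⁻¹ ∈ E₁) ∧ (∀ x ∈ E₂, ∀ g : T, g * x * g⁻¹ ∈ E₂) ∧
    3 * Nat.card T ≤ A * Nat.card E₁ ∧ 3 * Nat.card T ≤ A * Nat.card E₂ ∧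
    ∀ R : Subgroup T, Cyc r R → (∀ x ∈ R, x ∉ E₁) ∨ ∀ x ∈ R, x ∉ E₂

theorem TwoSets.congr {A r : ℕ} {T S : Type*} [Group T] [Group S] (Φ : T ≃* S) (h : TwoSets A r S) : TwoSets A r T := by
  obtain ⟨E₁, E₂, h1, h2, h3, h4, h5⟩ := h
  have hcard : ∀ E : Set S, Nat.card (Φ ⁻¹' E : Set T) = Nat.card E := fun E =>
    Nat.card_congr (Φ.toEquiv.subtypeEquiv fun x => Iff.rfl)
  refine ⟨Φ ⁻¹' E₁, Φ ⁻¹' E₂, ?_, ?_, ?_, ?_, ?_⟩
  · intro x hx g
    show Φ (g * x * g⁻¹) ∈ E₁
    rw [map_mul, map_mul, map_inv]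
    exact h1 _ hx _
  · intro x hx g
    show Φ (g * x * g⁻¹) ∈ E₂
    rw [map_mul, map_mul, map_inv]
    exact h2 _ hx _
  · rw [hcard, Nat.card_congr Φ.toEquiv]
    exact h3
  · rw [hcard, Nat.card_congr Φ.toEquiv]
    exact h4
  · intro R hR
    have hR' := cyc_comap Φ hR
    rcases h5 _ hR' with h | h
    · left
      intro x hx hx'
      refine h (Φ x) ?_ hx'
      show Φ.symm (Φ x) ∈ R
      rw [Φ.symm_apply_apply]
      exact hx
    · right
      intro x hx hx'
      refine h (Φ x) ?_ hx'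
      show Φ.symm (Φ x) ∈ R
      rw [Φ.symm_apply_apply]
      exact hx

section

variable {F : Type*} [Field F] [Finite F] {ι : Type*} [Fintype ι] [DecidableEq ι] {X T : Type*} [Group X] [Finite X]
  [Group T]

/-- **The two sets.** -/
theorem sets_of (σ : X →* Matrix.GeneralLinearGroup ι F) (hσ : Function.Injective σ) (π : X →* T)
    (hπ : Function.Surjective π) (hker : ∀ k : X, π k = 1 → ∃ a : F, (σ k : Matrix ι ι F) = a • 1) {r e : ℕ}
    (hr : Prim (Nat.card F) e r) (he : 2 ≤ e) {A : ℕ}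
    (h1 : 3 * Nat.card X ≤ A * Nat.card {y : X // HasType (lin σ) r e y})
    (h2 : 3 * Nat.card X ≤ A * Nat.card {y : X // HasType (lin σ) r (2 * e) y}) : TwoSets A r T := by
  have : Fact r.Prime := ⟨hr.prime⟩
  have : Finite T := Finite.of_surjective π hπ
  have hcard : Nat.card π.ker * Nat.card T = Nat.card X := by
    rw [← Nat.card_congr (QuotientGroup.quotientKerEquivOfSurjective π hπ).toEquiv]
    exact π.ker.card_mul_index
  have hinv : ∀ n, ∀ x ∈ π '' {y | HasType (lin σ) r n y}, ∀ g : T, g * x * g⁻¹ ∈ π '' {y | HasType (lin σ) r n y} := by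
    rintro n _ ⟨y, hy, rfl⟩ g
    obtain ⟨h, rfl⟩ := hπ g
    exact ⟨h * y * h⁻¹, HasType.conj (ρ := lin σ) h hy, by rw [map_mul, map_mul, map_inv]⟩
  have key : ∀ n, 3 * Nat.card X ≤ A * Nat.card {y : X // HasType (lin σ) r n y} →
      3 * Nat.card T ≤ A * Nat.card (π '' {y | HasType (lin σ) r n y} : Set T) := by
    intro n hn
    have h3 : Nat.card {y : X // HasType (lin σ) r n y} ≤
        Nat.card π.ker * Nat.card (π '' {y | HasType (lin σ) r n y} : Set T) := by
      refine le_trans ?_ (card_preimage π hπ fun t => t ∈ π '' {y | HasType (lin σ) r n y})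
      exact Nat.card_le_card_of_injective (fun y : {y : X // HasType (lin σ) r n y} =>
        (⟨y.1, y.1, y.2, rfl⟩ : {y : X // π y ∈ π '' {y | HasType (lin σ) r n y}})) fun a b hab =>
          Subtype.ext (Subtype.mk.inj hab)
    have h4 : Nat.card π.ker * (3 * Nat.card T) ≤
        Nat.card π.ker * (A * Nat.card (π '' {y | HasType (lin σ) r n y} : Set T)) := by
      calc Nat.card π.ker * (3 * Nat.card T) = 3 * Nat.card X := by rw [← hcard]; ring
        _ ≤ A * Nat.card {y : X // HasType (lin σ) r n y} := hn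
        _ ≤ A * (Nat.card π.ker * Nat.card (π '' {y | HasType (lin σ) r n y} : Set T)) := Nat.mul_le_mul_left _ h3
        _ = Nat.card π.ker * (A * Nat.card (π '' {y | HasType (lin σ) r n y} : Set T)) := by ring
    exact Nat.le_of_mul_le_mul_left h4 Nat.card_pos
  refine ⟨_, _, hinv e, hinv (2 * e), key e h1, key (2 * e) h2, fun R' hR => ?_⟩
  -- powers of order `r`
  have hpow : ∀ {n : ℕ} {t : T}, t ∈ R' → t ∈ π '' {y | HasType (lin σ) r n y} →
      ∃ z : X, orderOf z = r ∧ π z ∈ R' ∧ finrank F (R (lin σ z)) = n := by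
    rintro n _ ht ⟨y, hy, rfl⟩
    refine ⟨y ^ (orderOf y / r), ?_, ?_, hy.2⟩
    · obtain ⟨k, hk⟩ := hy.1
      have hk0 : 0 < k := by
        rcases Nat.eq_zero_or_pos k with h0 | h0
        · rw [h0, mul_zero] at hk
          exact absurd hk (orderOf_pos y).ne'
        · exact h0
      rw [hk, Nat.mul_div_cancel_left _ hr.prime.pos, orderOf_pow, hk, Nat.gcd_mul_left_left,
        Nat.mul_div_cancel _ hk0]
    · rw [map_pow]
      exact R'.pow_mem ht _
  by_contra hcon
  push Not at hcon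
  obtain ⟨⟨t₁, ht₁, hE₁⟩, ⟨t₂, ht₂, hE₂⟩⟩ := hcon
  obtain ⟨z₁, hz₁, hzR₁, hf₁⟩ := hpow ht₁ hE₁
  obtain ⟨z₂, hz₂, hzR₂, hf₂⟩ := hpow ht₂ hE₂
  have h3 := finrank_R_eq σ hσ π hπ hker hr he hz₁ hz₂ R' hR hzR₁ hzR₂
  omega

/-- **The sets.** -/
theorem two_of' (σ : X →* Matrix.GeneralLinearGroup ι F) (hσ : Function.Injective σ) (π : X →* T)
    (hπ : Function.Surjective π) (hker : ∀ k : X, π k = 1 → ∃ a : F, (σ k : Matrix ι ι F) = a • 1) {p r e b : ℕ}
    [Fact p.Prime] [CharP F p]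
    (hr : Prim (Nat.card F) e r) (he : 2 ≤ e) (h5 : 5 ≤ r) (hdim : Fintype.card ι ≤ 2 * e + 1)
    (hb : r ^ b ∣ Nat.card X) (hb' : ¬ r ^ b ∣ Nat.card F ^ (2 * e) - 1)
    (B : LinearMap.BilinForm F (ι → F)) (hinv : ∀ h v w, B (lin σ h v) (lin σ h w) = B v w)
    (hps : ∀ s : X, orderOf s = r → finrank F (R (lin σ s)) = e → p ∣ Nat.card (Subgroup.centralizer ({s} : Set X)))
    {W₁ W₂ V₀ : Submodule F (ι → F)} (hS : Split B W₁ W₂ V₀ e) {d : X}
    (hd : Good (lin σ) W₁ W₂ V₀ r (Nat.card F ^ (e / 2) + 1) d) : TwoSets (20 * Fintype.card ι) r T := by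
  have : Fact r.Prime := ⟨hr.prime⟩
  obtain ⟨s, hs, hse⟩ := exists_type_one σ hσ hr he hdim hb hb'
  have h1 := type_one (lin σ) (p := p) (ordd_of_prim hr) he h5 (cast_ne_zero' hr) (lin_injective hσ)
    (by rw [Module.finrank_fintype_fun_eq_card]; exact hdim) B hS.nd2 hinv hs hse (hps s hs hse)
  have h2 := type_two hinv (lin_injective hσ) (ordd_of_prim hr) he h5 (cast_ne_zero' hr)
    (by rw [Module.finrank_fintype_fun_eq_card]; exact hdim) hS hd
  rw [Module.finrank_fintype_fun_eq_card] at h1 h2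
  refine sets_of σ hσ π hπ hker hr he ?_ (by rw [mul_assoc]; exact h2)
  rw [mul_assoc]
  omega

end

section

variable {F : Type} [Field F] [Fintype F] {m : ℕ}

/-- **The symplectic groups.** -/
theorem two_psp' {r : ℕ} (hr : Prim (Nat.card F) m r) (hm : 4 ≤ m) (he : m % 2 = 0) :
    TwoSets (20 * (2 * m)) r (PSp m F) := by
  let σ : Matrix.symplecticGroup (Fin m) F →* Matrix.GeneralLinearGroup (Fin m ⊕ Fin m) F :=
    MonoidHom.toHomUnits (Matrix.symplecticGroup (Fin m) F).subtype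
  have hσ : Function.Injective σ := fun a b hab => Subtype.ext (congrArg Units.val hab)
  have hσv : ∀ s v, lin σ s v = s.1 *ᵥ v := fun s v => rfl
  have hq : 2 ≤ Nat.card F := Finite.one_lt_card
  obtain ⟨b, hb, hb'⟩ := exists_pow (D := 1) (c := Nat.card (Matrix.symplecticGroup (Fin m) F)) hr (by omega) hq
    (fun h => hr.prime.one_lt.ne' (Nat.dvd_one.1 h)) (by rw [one_mul]) (by
      rw [S0245.result (F := F) rfl m, ← Nat.card_eq_fintype_card]
      refine Dvd.dvd.mul_left ?_ _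
      have := prod_dvd (q := Nat.card F) (by omega) he
      rwa [prB_eq] at this)
  obtain ⟨p, hp⟩ := CharP.exists F
  have : Fact p.Prime := ⟨CharP.char_is_prime F p⟩
  have hlt := lt_of_prim hr
  obtain ⟨d, hd⟩ := exists_good (lin σ) hm he hr ((H934.IdxCl.levSp m F).comp SpecialLinearGroup.toGL) (by
      intro A B hAB
      have h1 := H934.IdxCl.levSp_injective hAB
      exact Subtype.ext (congrArg (fun g : GL (Fin m) F => (g : Matrix (Fin m) (Fin m) F)) h1))
    (inL (Fin m) (Fin m) F) inL_injective (fun A x => by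
      rw [hσv]
      change H934.IdxCl.lev m F _ *ᵥ _ = _
      rw [H934.IdxCl.lev_mulVec, inL_apply, inL_apply, Sum.elim_comp_inl, Sum.elim_comp_inr, mulVec_zero]
      rfl)
    (W₂ := LinearMap.range (inR (Fin m) (Fin m) F)) (V₀ := ⊥) (by
      rintro A _ ⟨x, rfl⟩
      rw [hσv]
      change H934.IdxCl.lev m F _ *ᵥ _ ∈ _
      rw [H934.IdxCl.lev_mulVec, inR_apply, Sum.elim_comp_inl, Sum.elim_comp_inr, mulVec_zero]
      exact ⟨_, rfl⟩)
    (by
      intro A v hv
      rw [(Submodule.mem_bot F).1 hv, map_zero]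
      exact Submodule.zero_mem _)
  have h1 := two_of' (p := p) σ hσ (QuotientGroup.mk' (Subgroup.center (Matrix.symplecticGroup (Fin m) F)))
    (QuotientGroup.mk'_surjective _) (fun k hk => by
      have h1 := (QuotientGroup.eq_one_iff k).1 hk
      exact (LieClassical.SympCenter.mem_center_iff m k).1 h1) hr (by omega) (by omega)
    (by rw [Fintype.card_sum, Fintype.card_fin]; omega) hb hb' (omB m F) (fun h v w => om_mulVec h v w)
    (fun s hs hse => by
      have h1 := finrank_add (F := F) (lin σ s)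
      rw [hse, Module.finrank_fintype_fun_eq_card, Fintype.card_sum, Fintype.card_fin] at h1
      have h2 : finrank F (K (lin σ s)) ≠ 0 := by omega
      rw [Ne, Submodule.finrank_eq_zero, ← Ne, Submodule.ne_bot_iff] at h2
      obtain ⟨v, hv, hv0⟩ := h2
      exact dvd_centralizer_sp s hv0 (mem_K.1 hv))
    split_sp hd
  rwa [Fintype.card_sum, Fintype.card_fin, ← two_mul] at h1

/-- **The orthogonal groups.** -/
theorem two_pomega' {ι : Type} [Fintype ι] [DecidableEq ι] (Q : QuadraticForm F (ι → F))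
    (hQ : (polarBilin Q).Nondegenerate)
    (hs : ∃ u : ι → F, u ≠ 0 ∧ Q u = 0) {m r b : ℕ} (hr : Prim (Nat.card F) m r) (hm : 4 ≤ m)
    (hdim : Fintype.card ι ≤ 2 * m + 1) (hdim' : 2 * m ≤ Fintype.card ι)
    (hb : r ^ b ∣ Nat.card (POmega F (⇑Q))) (hb' : ¬ r ^ b ∣ Nat.card F ^ (2 * m) - 1)
    {W₁ W₂ V₀ : Submodule F (ι → F)} (hS : Split (polarBilin Q) W₁ W₂ V₀ m) {d : Omega F (⇑Q)}
    (hd : Good (lin (toGLOm ⇑Q)) W₁ W₂ V₀ r (Nat.card F ^ (m / 2) + 1) d) :
    TwoSets (20 * Fintype.card ι) r (POmega F (⇑Q)) := by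
  obtain ⟨p, hp⟩ := CharP.exists F
  have : Fact p.Prime := ⟨CharP.char_is_prime F p⟩
  have hlt := lt_of_prim hr
  have hinv : ∀ (h : Omega F (⇑Q)) (v w : ι → F), polarBilin Q (lin (toGLOm ⇑Q) h v) (lin (toGLOm ⇑Q) h w) =
      polarBilin Q v w := by
    intro h v w
    rw [lin_toGLOm, lin_toGLOm, polarBilin_apply_apply, polarBilin_apply_apply]
    exact Cfsg.Agent.ClassicalGeometry.Reflection.polar_mulVec_of_isometry Q _
      ((Cfsg.Agent.ClassicalGeometry.Reflection.mem_isometryGroup_iff _ _).1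
        (h : isometryGroup F (⇑Q)).2) v w
  refine two_of' (p := p) (toGLOm ⇑Q) (toGLOm_injective _) (QuotientGroup.mk' (Subgroup.center (Omega F (⇑Q))))
    (QuotientGroup.mk'_surjective _) (fun k hk => ?_) hr (by omega) (by omega) hdim
    (hb.trans (Subgroup.card_quotient_dvd_card _)) hb' (polarBilin Q) hinv (fun s hs hse => ?_) hS hd
  · have h1 := (QuotientGroup.eq_one_iff k).1 hk
    rcases (LieClassical.OmegaCenter.mem_center_omega_iff Q hQ (by omega) hs k).1 h1 with h2 | h2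
    · exact ⟨1, by rw [one_smul]; exact h2⟩
    · exact ⟨-1, by rw [neg_one_smul]; exact h2⟩
  · set g := lin (toGLOm ⇑Q) s with hgd
    have hgr : g ^ r = 1 := by rw [hgd, ← map_pow, ← hs, pow_orderOf_eq_one, map_one]
    have h1 := finrank_add (F := F) g
    rw [hse, Module.finrank_fintype_fun_eq_card] at h1
    have hperp : ∀ v ∈ K g, ∀ w ∈ R g, polar (⇑Q) v w = 0 := by
      intro v hv w hw
      obtain ⟨x, rfl⟩ := mem_R.1 hw
      rw [QuadraticMap.polar_sub_right]
      have h2 := hinv s v x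
      rw [polarBilin_apply_apply, polarBilin_apply_apply, mem_K.1 hv] at h2
      rw [h2, sub_self]
    obtain ⟨u, a, hu0, hu, hua, ha⟩ := exists_pair (Q.comp (K g).subtype) (by omega) (by
      intro v hv
      apply Subtype.ext
      apply hQ.1
      intro w
      rw [polarBilin_apply_apply]
      obtain ⟨k, hk, t, ht, rfl⟩ := decomp hgr (cast_ne_zero' hr) w
      rw [QuadraticMap.polar_add_right, hperp v.1 v.2 t ht, add_zero]
      exact hv ⟨k, hk⟩)
    exact dvd_centralizer_orth Q hQ s (u := u.1) (a := a.1) (fun h => hu0 (Subtype.ext h)) hu hua ha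
      (mem_K.1 u.2) (mem_K.1 a.2)

end

/-! ### Named groups -/

theorem named_psp' {T : Type} [Group T] {m q r : ℕ} (hT : IsNamed (.psp m q) T) (hr : Prim q m r) (hm : 4 ≤ m)
    (he : m % 2 = 0) : TwoSets (20 * (2 * m)) r T := by
  obtain ⟨F, _, _, hF, ⟨Φ⟩⟩ := hT.real
  rw [← hF, ← Nat.card_eq_fintype_card] at hr
  exact (two_psp' hr hm he).congr Φ

theorem named_oodd' {T : Type} [Group T] {m q r : ℕ} (hT : IsNamed (.oodd m q) T) (hr : Prim q m r) (hm : 4 ≤ m)
    (he : m % 2 = 0) : TwoSets (20 * (2 * m + 1)) r T := by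
  have hc : 2 * Nat.card T = q ^ (m ^ 2) * prB q m := hT.eq
  obtain ⟨F, _, _, hF, ⟨Φ⟩⟩ := hT.real
  have h5 := lt_of_prim hr
  have hq : 2 ≤ q := by rw [← hF]; exact Fintype.one_lt_card
  obtain ⟨b, hb, hb'⟩ := exists_pow hr (by omega) hq (fun h => by have := Nat.le_of_dvd (by norm_num) h; omega) hc
    ((prod_dvd (by omega) he).mul_left _)
  rw [Nat.card_congr Φ.toEquiv] at hb
  have h2 : (2 : F) ≠ 0 := by
    have hodd : Odd (Fintype.card F) := by rw [hF]; exact hT.cond.2.1
    intro h0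
    have : CharP F 2 := CharTwo.of_one_ne_zero_of_two_eq_zero one_ne_zero h0
    obtain ⟨k, -, hk⟩ := FiniteField.card F 2
    rw [hk] at hodd
    have := (Nat.odd_pow_iff k.ne_zero).1 hodd
    exact absurd this (by decide)
  rw [← hF, ← Nat.card_eq_fintype_card] at hr hb'
  have hcard : Fintype.card (Unit ⊕ (Fin m ⊕ Fin m)) = 2 * m + 1 := by simp; ring
  have hgood := good_odd hm he hr
  rw [coe_quadOdd] at hgood
  obtain ⟨d, hd⟩ := hgood
  have key := two_pomega' (quadOdd m F) (quadOdd_nondegenerate h2) (quadOdd_isotropic (by omega)) hr hm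
    (by rw [hcard]) (by rw [hcard]; omega) (b := b)
  rw [coe_quadOdd, hcard] at key
  exact (key hb hb' (split_odd h2) hd).congr Φ

theorem named_oplus' {T : Type} [Group T] {m q r : ℕ} (hT : IsNamed (.oplus m q) T) (hr : Prim q m r) (hm : 4 ≤ m)
    (he : m % 2 = 0) : TwoSets (20 * (2 * m)) r T := by
  have hc : Nat.gcd 4 (q ^ m - 1) * Nat.card T = q ^ (m * (m - 1)) * ((q ^ m - 1) * prB q (m - 1)) := hT.eq
  obtain ⟨F, _, _, hF, ⟨Φ⟩⟩ := hT.real
  have h5 := lt_of_prim hr
  have hq : 2 ≤ q := by rw [← hF]; exact Fintype.one_lt_card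
  obtain ⟨b, hb, hb'⟩ := exists_pow hr (by omega) hq (fun h => by
    have := Nat.le_of_dvd (by norm_num) (h.trans (Nat.gcd_dvd_left _ _)); omega) hc
    (Dvd.dvd.mul_left (Nat.mul_dvd_mul_left _ (by
      rw [prB_eq]
      have h6 := Finset.dvd_prod_of_mem (fun i => q ^ (2 * (i + 1)) - 1)
        (Finset.mem_range.mpr (by omega : m / 2 - 1 < m - 1))
      rwa [show 2 * (m / 2 - 1 + 1) = m by omega] at h6)) _)
  rw [Nat.card_congr Φ.toEquiv] at hb
  rw [← hF, ← Nat.card_eq_fintype_card] at hr hb'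
  have hcard : Fintype.card (Fin m ⊕ Fin m) = 2 * m := by simp; ring
  have hgood := good_plus hm he hr
  rw [coe_quadPlus] at hgood
  obtain ⟨d, hd⟩ := hgood
  have key := two_pomega' (quadPlus m F) quadPlus_nondegenerate (quadPlus_isotropic (by omega)) hr hm
    (by rw [hcard]; omega) (by rw [hcard]) (b := b)
  rw [coe_quadPlus, hcard] at key
  exact (key hb hb' split_plus hd).congr Φ

/-- **The two sets** for the primes with Sylow subgroups of rank two. -/
theorem two_sets {g : Grp} {T : Type} [Group T] [Finite T] (hT : IsNamed g T)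
    (h5 : 5 ≤ H278.El.AltNum.dimOf g) {u : ℕ} (hu : H851.Dg.TwoU g u) :
    TwoSets (20 * H278.El.AltNum.dimOf g) u T := by
  cases g with
  | psp m q =>
    obtain ⟨hu1, hu2, hu3⟩ := hu
    change 5 ≤ 2 * m at h5
    rw [Nat.even_iff] at hu2
    obtain ⟨F, _, _, hF, -⟩ := hT.real
    have hq : 2 ≤ q := by rw [← hF]; exact Fintype.one_lt_card
    exact named_psp' hT (prim_of_orderOf (by omega) hu1 (by omega) hu3) (by omega) hu2
  | oodd m q =>
    obtain ⟨hu1, hu2, hu3⟩ := hu
    have h3 : 3 ≤ m := hT.cond.1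
    rw [Nat.even_iff] at hu2
    obtain ⟨F, _, _, hF, -⟩ := hT.real
    have hq : 2 ≤ q := by rw [← hF]; exact Fintype.one_lt_card
    exact named_oodd' hT (prim_of_orderOf (by omega) hu1 (by omega) hu3) (by omega) hu2
  | oplus m q =>
    obtain ⟨hu1, hu2, hu3⟩ := hu
    have h3 : 4 ≤ m := hT.cond.1
    rw [Nat.even_iff] at hu2
    obtain ⟨F, _, _, hF, -⟩ := hT.real
    have hq : 2 ≤ q := by rw [← hF]; exact Fintype.one_lt_card
    exact named_oplus' hT (prim_of_orderOf (by omega) hu1 (by omega) hu3) (by omega) hu2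
  | _ => exact hu.elim

end Cfsg.Agent.H243.RG.Two
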